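import Mathlib.GroupTheory.Solvable
import Mathlib.GroupTheory.PGroup
import Mathlib.GroupTheory.QuotientGroup.Basic
import Mathlib.GroupTheory.Index
import Mathlib.Algebra.CharP.Lemmas
import Mathlib.Algebra.Group.End
import Mathlib.Tactic.Group
import Mathlib.Tactic.Abel

/-!
# Automorphisms of prime order with few fixed points: elementary bounds
-/

set_option autoImplicit false
set_option linter.style.haveILetI false

namespace CfsgLib.AlperinBound

open Subgroup

variable {G : Type*} [Group G]

/-- The number of fixed points of an automorphism. -/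
noncomputable def nfix (α : MulAut G) : ℕ := Nat.card {g : G // α g = g}

/-- The fixed subgroup. -/
def fixSub (α : MulAut G) : Subgroup G := α.toMonoidHom.eqLocus (MonoidHom.id G)

theorem mem_fixSub {α : MulAut G} {g : G} : g ∈ fixSub α ↔ α g = g := Iff.rfl

theorem card_fixSub (α : MulAut G) : Nat.card (fixSub α) = nfix α :=
  Nat.card_congr (Equiv.subtypeEquivRight fun _ => Iff.rfl)

theorem nfix_pos [Finite G] (α : MulAut G) : 0 < nfix α := by
  rw [← card_fixSub]; exact Nat.card_pos

/-- An invariant subgroup has at most as many fixed points. -/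
theorem card_fix_le [Finite G] (α : MulAut G) (A : Subgroup G) :
    Nat.card ↥(A ⊓ fixSub α) ≤ nfix α := by
  rw [← card_fixSub]
  exact Nat.le_of_dvd Nat.card_pos (card_dvd_of_le inf_le_right)

theorem inv_of_le [Finite G] (α : MulAut G) {N : Subgroup G} (h : ∀ x ∈ N, α x ∈ N) :
    N.map α.toMonoidHom = N :=
  eq_of_le_of_card_ge (by rintro _ ⟨x, hx, rfl⟩; exact h x hx)
    (card_map_of_injective (f := α.toMonoidHom) α.injective).ge

/-- The automorphism of a quotient by an invariant normal subgroup. -/
noncomputable def quotAut [Finite G] (α : MulAut G) (N : Subgroup G) [N.Normal]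
    (h : ∀ x ∈ N, α x ∈ N) : MulAut (G ⧸ N) :=
  QuotientGroup.congr N N α (inv_of_le α h)

theorem quotAut_mk [Finite G] (α : MulAut G) (N : Subgroup G) [N.Normal]
    (h : ∀ x ∈ N, α x ∈ N) (x : G) : quotAut α N h (x : G ⧸ N) = ((α x : G) : G ⧸ N) := rfl

theorem quotAut_pow [Finite G] (α : MulAut G) (N : Subgroup G) [N.Normal]
    (h : ∀ x ∈ N, α x ∈ N) (k : ℕ) (x : G) :
    (quotAut α N h ^ k) (x : G ⧸ N) = (((α ^ k) x : G) : G ⧸ N) := by
  induction k generalizing x with
  | zero => rfl
  | succ k ih => rw [pow_succ, pow_succ, MulAut.mul_apply, MulAut.mul_apply, quotAut_mk, ih]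

theorem quotAut_pow_eq_one [Finite G] (α : MulAut G) (N : Subgroup G) [N.Normal]
    (h : ∀ x ∈ N, α x ∈ N) {k : ℕ} (hk : α ^ k = 1) : quotAut α N h ^ k = 1 := by
  refine MulEquiv.ext fun y => QuotientGroup.induction_on y fun x => ?_
  rw [quotAut_pow, hk]; rfl

/-- The map `g ↦ g (α g)⁻¹`. -/
def twist (α : MulAut G) (g : G) : G := g * (α g)⁻¹

theorem twist_eq_iff (α : MulAut G) (g h : G) : twist α g = twist α h ↔ g⁻¹ * h ∈ fixSub α := by
  rw [mem_fixSub, map_mul, map_inv, twist, twist]
  constructor
  · intro e
    calc (α g)⁻¹ * α h = g⁻¹ * (g * (α g)⁻¹) * α h := by group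
      _ = g⁻¹ * (h * (α h)⁻¹) * α h := by rw [e]
      _ = g⁻¹ * h := by group
  · intro e
    calc g * (α g)⁻¹ = g * ((α g)⁻¹ * α h) * (α h)⁻¹ := by group
      _ = g * (g⁻¹ * h) * (α h)⁻¹ := by rw [e]
      _ = h * (α h)⁻¹ := by group

theorem card_range_twist [Finite G] (α : MulAut G) :
    Nat.card (Set.range (twist α)) * nfix α = Nat.card G := by
  let f : G ⧸ fixSub α → Set.range (twist α) :=
    Quotient.lift (fun g => ⟨twist α g, g, rfl⟩) fun g h hgh =>
      Subtype.ext ((twist_eq_iff α g h).2 (QuotientGroup.leftRel_apply.1 hgh))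
  have hf : Function.Bijective f := by
    refine ⟨fun a b => ?_, ?_⟩
    · induction a using Quotient.inductionOn with
      | _ g =>
        induction b using Quotient.inductionOn with
        | _ h =>
          intro e
          exact Quotient.sound
            (QuotientGroup.leftRel_apply.2 ((twist_eq_iff α g h).1 (congrArg Subtype.val e)))
    · rintro ⟨_, g, rfl⟩
      exact ⟨(g : G ⧸ fixSub α), rfl⟩
  rw [← Nat.card_congr (Equiv.ofBijective f hf), ← card_fixSub,
    ← card_eq_card_quotient_mul_card_subgroup]

/-- A quotient has at most as many fixed points. -/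
theorem nfix_quotAut_le [Finite G] (α : MulAut G) (N : Subgroup G) [N.Normal]
    (h : ∀ x ∈ N, α x ∈ N) : nfix (quotAut α N h) ≤ nfix α := by
  set π := QuotientGroup.mk' N
  set β := quotAut α N h
  have himg : ∀ g : G, π (twist α g) = twist β (π g) := fun g => by
    simp only [twist, map_mul, map_inv]; rfl
  let f : Set.range (twist α) → Set.range (twist β) × N := fun r =>
    (⟨π r, by obtain ⟨g, hg⟩ := r.2; exact ⟨π g, by rw [← himg, hg]⟩⟩,
      ⟨(π (r : G)).out⁻¹ * r, QuotientGroup.eq.1 (QuotientGroup.out_eq' (π (r : G)))⟩)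
  have hf : Function.Injective f := by
    intro a b e
    obtain ⟨e1, e2⟩ := Prod.ext_iff.1 e
    have e1' : π (a : G) = π b := congrArg Subtype.val e1
    have e2' : (π (a : G)).out⁻¹ * a = (π (b : G)).out⁻¹ * b := congrArg Subtype.val e2
    rw [e1'] at e2'
    exact Subtype.ext (mul_left_cancel e2')
  have hle := Nat.card_le_card_of_injective f hf
  rw [Nat.card_prod] at hle
  have h1 := card_range_twist α
  have h2 := card_range_twist β
  have h3 := card_eq_card_quotient_mul_card_subgroup N
  have hR : 0 < Nat.card (Set.range (twist α)) := by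
    haveI : Nonempty (Set.range (twist α)) := ⟨⟨_, 1, rfl⟩⟩
    exact Nat.card_pos
  refine Nat.le_of_mul_le_mul_left ?_ hR
  rw [h1, h3, ← h2]
  calc Nat.card (Set.range (twist α)) * nfix β
      ≤ Nat.card (Set.range (twist β)) * Nat.card N * nfix β := Nat.mul_le_mul_right _ hle
    _ = _ := by ring

/-- `α - 1` on an abelian invariant subgroup. -/
theorem card_le_of_elementary [Finite G] {p : ℕ} [hp : Fact p.Prime] (α : MulAut G)
    (hα : α ^ p = 1) (A : Subgroup G) (hA : ∀ x ∈ A, α x ∈ A)
    (hc : ∀ x ∈ A, ∀ y ∈ A, x * y = y * x) (he : ∀ x ∈ A, x ^ p = 1) :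
    Nat.card A ≤ nfix α ^ p := by
  letI : CommGroup A := { (inferInstance : Group A) with
    mul_comm := fun x y => Subtype.ext (hc _ x.2 _ y.2) }
  let a : A →* A :=
    { toFun := fun x => ⟨α x, hA x x.2⟩
      map_one' := Subtype.ext (map_one α)
      map_mul' := fun x y => Subtype.ext (map_mul α (x : G) y) }
  let T : AddMonoid.End (Additive A) := MonoidHom.toAdditive a
  have hTk : ∀ (k : ℕ) (x : Additive A),
      (((T ^ k) x).toMul : G) = (α ^ k) (x.toMul : G) := by
    intro k
    induction k with
    | zero => intro x; rfl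
    | succ k ih =>
      intro x
      rw [pow_succ, pow_succ, MulAut.mul_apply]
      exact ih (T x)
  have hTp : T ^ p = 1 := by
    refine DFunLike.ext _ _ fun x => Additive.toMul.injective (Subtype.ext ?_)
    rw [hTk, hα]; rfl
  have hzero : ∀ x : Additive A, p • x = 0 := fun x =>
    Additive.toMul.injective (Subtype.ext (he _ x.toMul.2))
  have hD : (T - 1) ^ p = 0 := by
    obtain ⟨r, hr⟩ := Commute.exists_add_pow_prime_eq hp.out (Commute.one_right (T - 1))
    rw [sub_add_cancel, hTp, one_pow, mul_one, eq_comm, add_right_comm, add_eq_right,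
      add_eq_zero_iff_eq_neg] at hr
    rw [hr]
    refine DFunLike.ext _ _ fun x => ?_
    have hp0 : ∀ u : AddMonoid.End (Additive A), ((p : AddMonoid.End (Additive A)) * u) x = 0 :=
      fun u => (AddMonoid.End.natCast_apply p (u x)).trans (hzero _)
    rw [mul_assoc]
    exact neg_eq_zero.2 (hp0 _)
  let D : Additive A →+ Additive A := (T - 1 : AddMonoid.End (Additive A))
  have hDp : ∀ x, (⇑D)^[p] x = 0 := fun x => by
    have h := DFunLike.congr_fun hD x
    rw [AddMonoid.End.coe_pow] at h
    exact h
  let K : ℕ → AddSubgroup (Additive A) := fun k =>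
    { carrier := {x | (⇑D)^[k] x = 0}
      zero_mem' := iterate_map_zero D k
      add_mem' := fun {a b} ha hb => by
        simp only [Set.mem_ofPred_eq, iterate_map_add] at *; rw [ha, hb, add_zero]
      neg_mem' := fun {a} ha => by
        simp only [Set.mem_ofPred_eq, iterate_map_neg] at *; rw [ha, neg_zero] }
  have hker : ∀ k, Nat.card (K k) ≤ nfix α ^ k := by
    intro k
    induction k with
    | zero =>
      rw [pow_zero]
      exact le_of_eq (Nat.card_eq_one_iff_unique.2 ⟨⟨fun x y => Subtype.ext (x.2.trans y.2.symm)⟩,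
        ⟨0⟩⟩)
    | succ k ih =>
      let g : K (k + 1) →+ K k :=
        { toFun := fun x => ⟨D x.1, x.2⟩
          map_zero' := Subtype.ext (map_zero D)
          map_add' := fun x y => Subtype.ext (map_add D _ _) }
      have hk : Nat.card g.ker ≤ nfix α := by
        refine Nat.card_le_card_of_injective
          (fun x => (⟨((x.1.1).toMul : G), ?_⟩ : {g : G // α g = g})) fun x y e => ?_
        · have h1 : D x.1.1 = 0 := congrArg Subtype.val x.2
          have h2 : T x.1.1 = x.1.1 := sub_eq_zero.1 h1
          exact congrArg (fun z : Additive A => (z.toMul : G)) h2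
        · have e' : ((x.1.1).toMul : G) = ((y.1.1).toMul : G) := Subtype.mk.inj e
          exact Subtype.ext (Subtype.ext (Additive.toMul.injective (Subtype.ext e')))
      rw [← AddSubgroup.card_mul_index g.ker, AddSubgroup.index_ker, pow_succ']
      exact Nat.mul_le_mul hk (le_trans (Nat.card_le_card_of_injective (fun x : g.range => x.1) Subtype.val_injective) ih)
  refine le_trans (le_of_eq ?_) (hker p)
  exact Nat.card_congr ((Additive.ofMul).trans (Equiv.subtypeUnivEquiv fun x => hDp x).symm)

/-- An invariant abelian subgroup of exponent dividing `p ^ j`. -/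
theorem card_le_of_abelian [Finite G] {p : ℕ} [hp : Fact p.Prime] (α : MulAut G) (hα : α ^ p = 1) :
    ∀ (j : ℕ) (A : Subgroup G), (∀ x ∈ A, α x ∈ A) → (∀ x ∈ A, ∀ y ∈ A, x * y = y * x) →
      (∀ x ∈ A, x ^ p ^ j = 1) → Nat.card A ≤ (nfix α ^ p) ^ j := by
  intro j
  induction j with
  | zero =>
    intro A _ _ he
    have : A = ⊥ := (eq_bot_iff_forall _).2 fun x hx => by simpa using he x hx
    rw [this, pow_zero, card_bot]
  | succ j ih =>
    intro A hA hc he
    letI : CommGroup A := { (inferInstance : Group A) with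
      mul_comm := fun x y => Subtype.ext (hc _ x.2 _ y.2) }
    set f : A →* G := A.subtype.comp (powMonoidHom p) with hf
    have hfx : ∀ x : A, f x = (x : G) ^ p := fun x => rfl
    have h1 : Nat.card f.ker ≤ nfix α ^ p := by
      rw [← card_map_of_injective (K := f.ker) A.subtype_injective]
      refine card_le_of_elementary α hα _ ?_ ?_ ?_
      · rintro _ ⟨x, hx, rfl⟩
        exact ⟨⟨α x, hA x x.2⟩, by
          rw [SetLike.mem_coe, MonoidHom.mem_ker, hfx]
          show α (x : G) ^ p = 1
          rw [← map_pow, ← hfx, MonoidHom.mem_ker.1 hx, map_one], rfl⟩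
      · rintro _ ⟨x, -, rfl⟩ _ ⟨y, -, rfl⟩
        exact hc _ x.2 _ y.2
      · rintro _ ⟨x, hx, rfl⟩
        exact (hfx x).symm.trans hx
    have h2 : Nat.card f.range ≤ (nfix α ^ p) ^ j := by
      refine ih _ ?_ ?_ ?_
      · rintro _ ⟨x, rfl⟩
        exact ⟨⟨α x, hA x x.2⟩, by rw [hfx, hfx, map_pow]⟩
      · rintro _ ⟨x, rfl⟩ _ ⟨y, rfl⟩
        exact hc _ (pow_mem x.2 p) _ (pow_mem y.2 p)
      · rintro _ ⟨x, rfl⟩
        rw [hfx, ← pow_mul, ← pow_succ']
        exact he x x.2
    rw [← card_mul_index f.ker, Subgroup.index_ker, pow_succ']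
    exact Nat.mul_le_mul h1 h2

/-! ### Derived length -/

theorem derivedSeries_add_le (N : Subgroup G) {a : ℕ} (h : derivedSeries G a ≤ N) (b : ℕ) :
    derivedSeries G (a + b) ≤ (derivedSeries N b).map N.subtype := by
  induction b with
  | zero =>
    rw [add_zero, derivedSeries_zero, ← MonoidHom.range_eq_map, range_subtype]
    exact h
  | succ b ih =>
    rw [← add_assoc, derivedSeries_succ, derivedSeries_succ, map_commutator]
    exact commutator_mono ih ih

theorem derivedSeries_eq_bot_add {N : Subgroup G} {a b : ℕ} (h : derivedSeries G a ≤ N)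
    (hb : derivedSeries N b = ⊥) : derivedSeries G (a + b) = ⊥ := by
  have := derivedSeries_add_le N h b
  rwa [hb, Subgroup.map_bot, le_bot_iff] at this

theorem derivedSeries_mono_bot {a b : ℕ} (hab : a ≤ b) (h : derivedSeries G a = ⊥) :
    derivedSeries G b = ⊥ :=
  le_bot_iff.1 ((derivedSeries_antitone G hab).trans h.le)

theorem derivedSeries_le_of_quotient (N : Subgroup G) [N.Normal] {a : ℕ}
    (h : derivedSeries (G ⧸ N) a = ⊥) : derivedSeries G a ≤ N := by
  rw [← QuotientGroup.ker_mk' N, ← MonoidHom.comap_bot, ← Subgroup.map_le_iff_le_comap, ← h]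
  exact map_derivedSeries_le_derivedSeries _ a

theorem derivedSeries_eq_bot_of_card_le [Finite G] [hs : Group.IsSolvable G] {B : ℕ}
    (hB : Nat.card G ≤ B) : derivedSeries G B = ⊥ := by
  obtain ⟨n, hn⟩ := (Group.isSolvable_def G).1 hs
  have key : ∀ i, derivedSeries G i = ⊥ ∨ Nat.card (derivedSeries G i) + i ≤ Nat.card G := by
    intro i
    induction i with
    | zero => right; rw [derivedSeries_zero, card_top, add_zero]
    | succ i ih =>
      by_cases hi : derivedSeries G i = ⊥
      · exact Or.inl (derivedSeries_mono_bot i.le_succ hi)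
      rcases ih with h | h
      · exact absurd h hi
      right
      have hne : derivedSeries G (i + 1) ≠ derivedSeries G i := by
        intro e
        refine hi (le_bot_iff.1 ?_)
        rw [← hn]
        have hst : ∀ m, derivedSeries G (i + m) = derivedSeries G i := by
          intro m
          induction m with
          | zero => rfl
          | succ m ihm => rw [← add_assoc, derivedSeries_succ, ihm, ← derivedSeries_succ, e]
        rw [← hst n]
        exact derivedSeries_antitone G (by omega)
      have hlt : Nat.card (derivedSeries G (i + 1)) < Nat.card (derivedSeries G i) := by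
        by_contra hle
        exact hne (eq_of_le_of_card_ge (derivedSeries_antitone G i.le_succ) (not_lt.1 hle))
      omega
  rcases key B with h | h
  · exact h
  · exfalso
    have := Nat.card_pos (α := derivedSeries G B)
    omega

end CfsgLib.AlperinBound
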