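import Mathlib.GroupTheory.PGroup
import Cfsg.Agent.FGSA.Higman

/-!
# The Higman bound for a p-group with an automorphism of order p with few fixed points

A deep enough lower central factor has bounded exponent.
-/

set_option autoImplicit false
set_option linter.unusedSectionVars false

namespace CfsgLib.AlperinBound

open CfsgLib.Higman CfsgLib.GrLie CfsgLib.LieFamily TensorProduct
open scoped commutatorElement

/-- The Higman–Kreknin–Kostrikin class bound. -/
def hdeg (p : ℕ) : ℕ := LieFamily.bound p (2 ^ (p - 1) - 1)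

noncomputable local instance (priority := high) instBracketScaled {p : ℕ} {G : Type*} [Group G] :
    Bracket (R p ⊗[ℤ] Gr G) (R p ⊗[ℤ] Gr G) :=
  ⟨(LieAlgebra.ExtendScalars.instLieRing ℤ (R p) (Gr G)).bracket⟩

section

variable {p : ℕ} [Fact p.Prime] {G : Type*} [Group G] [Finite G] (α : MulAut G)

variable (hα : α ^ p = 1) {F : ℕ}
  (hfix : ∀ n, ∀ z ∈ gam G n, α z * z⁻¹ ∈ gam G (n + 1) → z ^ p ^ F ∈ gam G (n + 1))

include hα hfix in
theorem smul_sum_iterate (x : Gr G) :
    p ^ F • ∑ k ∈ Finset.range p, (mapAut α)^[k] x = 0 := by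
  refine GrLie.induction (P := fun x => p ^ F • ∑ k ∈ Finset.range p, (mapAut α)^[k] x = 0) ?_
    (fun n g hg => ?_) (fun a b ha hb => ?_) x
  · simp [iterate_map_zero]
  · obtain ⟨z, hz, he⟩ : ∃ z, ∃ hz : z ∈ gam G n,
        ι n z hz = ∑ k ∈ Finset.range p, (mapAut α)^[k] (ι n g hg) := by
      refine Finset.sum_induction _ (fun v : Gr G => ∃ z, ∃ hz : z ∈ gam G n, ι n z hz = v)
        ?_ ⟨1, one_mem _, ι_one⟩ (fun k _ => ⟨_, aut_mem _ hg, (iterate_mapAut α k n g hg).symm⟩)
      rintro a b ⟨u, hu, rfl⟩ ⟨v, hv, rfl⟩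
      exact ⟨u * v, mul_mem hu hv, ι_mul hu hv⟩
    rw [← he, ← ι_pow, ι_eq_zero]
    refine hfix n z hz ?_
    have heq : ι n (α z) (aut_mem α hz) = ι n z hz := by
      rw [← mapAut_ι α hz, he, map_sum]
      simp only [← Function.iterate_succ_apply' (mapAut α)]
      set f : ℕ → Gr G := fun k => (mapAut α)^[k] (ι n g hg) with hfdef
      show ∑ k ∈ Finset.range p, f (k + 1) = ∑ k ∈ Finset.range p, f k
      obtain ⟨q, hq⟩ : ∃ q, p = q + 1 := ⟨p - 1, by have := (Fact.out : p.Prime).pos; omega⟩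
      rw [hq, Finset.sum_range_succ (fun k => f (k + 1)), Finset.sum_range_succ' f]
      congr 1
      show (mapAut α)^[q + 1] (ι n g hg) = (mapAut α)^[0] (ι n g hg)
      rw [Function.iterate_zero_apply, iterate_mapAut, ← hq]
      exact ι_congr rfl (by rw [hα]; rfl) _ _
    have h0 : ι n (α z * z⁻¹) (mul_mem (aut_mem α hz) (inv_mem hz)) = 0 := by
      rw [ι_mul (aut_mem α hz) (inv_mem hz), ι_inv hz, heq, add_neg_cancel]
    exact (ι_eq_zero _).1 h0
  · rw [Finset.sum_congr rfl (fun k _ => iterate_map_add (mapAut α) k a b), Finset.sum_add_distrib,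
      smul_add, ha, hb, add_zero]

include hα hfix in
theorem smul_comp_zero {v : LL p G} (hv : v ∈ comp α 0) : p ^ (F + 1) • v = 0 := by
  have hsum : ∀ v : LL p G, p ^ F • ∑ k ∈ Finset.range p, (A α)^[k] v = 0 := by
    intro v
    induction v using TensorProduct.induction_on with
    | zero => simp [iterate_map_zero]
    | add a b ha hb => simp only [iterate_map_add, Finset.sum_add_distrib, smul_add, ha, hb, add_zero]
    | tmul r x =>
      simp only [A_iterate]
      rw [← TensorProduct.tmul_sum, ← TensorProduct.tmul_smul, smul_sum_iterate α hα hfix,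
        TensorProduct.tmul_zero]
  rw [mem_comp, ZMod.val_zero, pow_zero, one_smul] at hv
  have h := hsum v
  simp only [Function.iterate_fixed hv, Finset.sum_const, Finset.card_range, ← mul_smul,
    ← pow_succ] at h
  exact h

/-- The eigenspaces, scaled. -/
noncomputable def scaled (M : ℕ) (i : ZMod p) : AddSubgroup (LL p G) :=
  (comp α i).map (nsmulAddMonoidHom M)

include hα hfix in
theorem closed_scaled : Closed (scaled (p := p) α (p ^ (F + 1))) := by
  refine ⟨?_, fun i j => ?_⟩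
  · rw [eq_bot_iff]
    rintro _ ⟨v, hv, rfl⟩
    rw [AddSubgroup.mem_bot]
    exact smul_comp_zero α hα hfix hv
  · rintro _ ⟨x, hx, rfl⟩ _ ⟨y, hy, rfl⟩
    refine ⟨p ^ (F + 1) • ⁅x, y⁆, AddSubgroup.nsmul_mem _ ?_ _, ?_⟩
    · rw [SetLike.mem_coe, mem_comp] at hx hy
      rw [mem_comp, A_lie, hx, hy, ll_smul, ζ_val_add]
    · show p ^ (F + 1) • (p ^ (F + 1) • ⁅x, y⁆) = ⁅p ^ (F + 1) • x, p ^ (F + 1) • y⁆
      rw [← Nat.cast_smul_eq_nsmul (R p), ← Nat.cast_smul_eq_nsmul (R p),
        ← Nat.cast_smul_eq_nsmul (R p) _ x, ← Nat.cast_smul_eq_nsmul (R p) _ y, ll_smul, smul_smul]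

theorem smul_lcf_mem (M : ℕ) : ∀ n i, ∀ x ∈ LieFamily.lcf (comp (p := p) α) n i,
    M ^ (n + 1) • x ∈ LieFamily.lcf (scaled α M) n i := by
  intro n
  induction n with
  | zero => intro i x hx; exact ⟨x, hx, by rw [pow_one]; rfl⟩
  | succ n ih =>
    intro i x hx
    refine AddSubgroup.closure_induction
      (p := fun x _ => M ^ (n + 1 + 1) • x ∈ LieFamily.lcf (scaled α M) (n + 1) i) ?_ ?_ ?_ ?_ hx
    · rintro _ ⟨a, b, u, w, hu, hw, rfl, rfl⟩
      have h : ⁅M ^ (n + 1) • u, M • w⁆ ∈ LieFamily.lcf (scaled α M) (n + 1) (a + b) :=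
        mem_br (ih a u hu) ⟨w, hw, rfl⟩
      rwa [← Nat.cast_smul_eq_nsmul (R p) _ u, ← Nat.cast_smul_eq_nsmul (R p) M w, ll_smul,
        ← Nat.cast_mul, ← pow_succ, Nat.cast_smul_eq_nsmul] at h
    · rw [smul_zero]; exact zero_mem _
    · intro a b _ _ ha hb; rw [smul_add]; exact add_mem ha hb
    · intro a _ ha; rw [smul_neg]; exact neg_mem ha

include hα in
theorem smul_mem_span (v : LL p G) : p • v ∈ ⨆ i, comp (p := p) α i := by
  classical
  let w : ZMod p → LL p G := fun j =>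
    ∑ k : ZMod p, (ζ p) ^ (j * -k).val • (A α)^[k.val] v
  have hw : ∀ j, w j ∈ comp α j := by
    intro j
    rw [mem_comp]
    simp only [w, map_sum, map_smul, Finset.smul_sum, smul_smul]
    refine Fintype.sum_equiv (Equiv.addRight (1 : ZMod p)) _ _ fun k => ?_
    have hA : A α ((A α)^[k.val] v) = (A α)^[(k + 1).val] v := by
      rw [← Function.iterate_succ_apply' (A α)]
      have hper : ∀ m, (A α)^[m] v = (A α)^[m % p] v := by
        intro m
        conv_lhs => rw [← Nat.mod_add_div m p, Function.iterate_add_apply, Function.iterate_mul]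
        rw [Function.iterate_fixed (A_iterate_p α hα v)]
      rw [ZMod.val_add, hper (k.val + 1), ZMod.val_one]
    simp only [Equiv.coe_addRight, hA, ← ζ_val_add]
    congr 3
    ring
  have hsum : ∑ j : ZMod p, w j = p • v := by
    simp only [w]
    rw [Finset.sum_comm]
    simp only [← Finset.sum_smul]
    rw [Finset.sum_eq_single (0 : ZMod p)]
    · rw [sum_ζ_pow, if_pos neg_zero, ZMod.val_zero, Function.iterate_zero_apply,
        Nat.cast_smul_eq_nsmul]
    · intro k _ hk
      rw [sum_ζ_pow, if_neg (neg_ne_zero.2 hk), zero_smul]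
    · exact fun h => absurd (Finset.mem_univ _) h
  rw [← hsum]
  exact AddSubgroup.sum_mem _ fun j _ => (le_iSup (comp (p := p) α) j) (hw j)

include hα in
theorem smul_ι_mem_lcf : ∀ n x (hx : x ∈ gam G n),
    p ^ (n + 1) • ((1 : R p) ⊗ₜ[ℤ] ι n x hx) ∈ ⨆ i, LieFamily.lcf (comp (p := p) α) n i := by
  intro n
  induction n with
  | zero => intro x hx; rw [pow_one]; exact smul_mem_span α hα _
  | succ n ih =>
    intro x hx
    set S := ⨆ i, LieFamily.lcf (comp (p := p) α) (n + 1) i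
    refine Subgroup.closure_induction (p := fun x _ => ∀ hx : x ∈ gam G (n + 1),
      p ^ (n + 1 + 1) • ((1 : R p) ⊗ₜ[ℤ] ι (n + 1) x hx) ∈ S) ?_ ?_ ?_ ?_ hx hx
    · rintro g ⟨a, ha, b, -, rfl⟩ hg
      have hb : b ∈ gam G 0 := Subgroup.mem_top b
      have e : ι (n + 1) ⁅a, b⁆ hg = ⁅ι n a ha, ι 0 b hb⁆ := by
        rw [lie_ι]
      rw [e, ← one_mul (1 : R p), ← br_tmul, ← Nat.cast_smul_eq_nsmul (R p), pow_succ,
        Nat.cast_mul, ← ll_smul, Nat.cast_smul_eq_nsmul, Nat.cast_smul_eq_nsmul]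
      set u := p ^ (n + 1) • ((1 : R p) ⊗ₜ[ℤ] ι n a ha) with hu
      set w := p • ((1 : R p) ⊗ₜ[ℤ] ι 0 b hb) with hw
      refine AddSubgroup.iSup_induction _ (C := fun u => ⁅u, w⁆ ∈ S) (ih a ha) (fun i y hy => ?_)
        (by rw [ll_zero_lie]; exact zero_mem _)
        (fun y z h1 h2 => by rw [ll_add_lie]; exact add_mem h1 h2)
      refine AddSubgroup.iSup_induction _ (C := fun w => ⁅y, w⁆ ∈ S)
        (smul_mem_span α hα ((1 : R p) ⊗ₜ[ℤ] ι 0 b hb)) (fun j z hz => ?_)
        (by rw [ll_lie_zero]; exact zero_mem _)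
        (fun y z h1 h2 => by rw [ll_lie_add]; exact add_mem h1 h2)
      exact (le_iSup (LieFamily.lcf (comp (p := p) α) (n + 1)) (i + j)) (mem_br hy hz)
    · intro h
      rw [ι_one, TensorProduct.tmul_zero, smul_zero]
      exact zero_mem _
    · intro a b ha hb iha ihb h
      rw [ι_mul ha hb, TensorProduct.tmul_add, smul_add]
      exact add_mem (iha _) (ihb _)
    · intro a ha iha h
      rw [ι_inv ha, TensorProduct.tmul_neg, smul_neg]
      exact neg_mem (iha _)

end

/-- The exponent of the deep factor. -/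
def expo (p F : ℕ) : ℕ := (hdeg p + 1) * (F + 2)

/-- **The deep factor has bounded exponent.** -/
theorem pow_mem_gam_succ {p : ℕ} [Fact p.Prime] {G : Type*} [Group G] [Finite G] (α : MulAut G)
    (hα : α ^ p = 1) {F : ℕ}
    (hfix : ∀ n, ∀ z ∈ gam G n, α z * z⁻¹ ∈ gam G (n + 1) → z ^ p ^ F ∈ gam G (n + 1))
    {x : G} (hx : x ∈ gam G (hdeg p)) : x ^ p ^ expo p F ∈ gam G (hdeg p + 1) := by
  set h := hdeg p
  set M := p ^ (F + 1)
  have hP := closed_scaled α hα hfix
  have hbot : ∀ i, LieFamily.lcf (scaled (p := p) α M) h i = ⊥ :=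
    kostrikin _ _ hP fun i => kreknin hP i
  have hv : ∀ v ∈ ⨆ i, LieFamily.lcf (comp (p := p) α) h i, M ^ (h + 1) • v = 0 := by
    intro v hv
    refine AddSubgroup.iSup_induction _ (C := fun v => M ^ (h + 1) • v = 0) hv ?_ (smul_zero _)
      (fun a b ha hb => by rw [smul_add, ha, hb, add_zero])
    intro i y hy
    have := smul_lcf_mem α M h i y hy
    rwa [hbot, AddSubgroup.mem_bot] at this
  have h1 := hv _ (smul_ι_mem_lcf (p := p) α hα h x hx)
  rw [← mul_smul, show M ^ (h + 1) * p ^ (h + 1) = p ^ expo p F by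
    rw [← mul_pow, ← pow_succ, ← pow_mul, expo, mul_comm]] at h1
  rw [← TensorProduct.tmul_smul, ← ι_pow hx] at h1
  obtain ⟨f, hf⟩ := exists_retraction p
  have h2 := congrArg (TensorProduct.lid ℤ (Gr G) ∘ f.rTensor (Gr G)) h1
  simp only [Function.comp_apply, LinearMap.rTensor_tmul, TensorProduct.lid_tmul, map_zero,
    hf, one_smul] at h2
  exact (ι_eq_zero _).1 h2

end CfsgLib.AlperinBound
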