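import Cfsg.Agent.AlperinBound.Powerful
import Cfsg.Agent.AlperinBound.LieBound
import Cfsg.Agent.FGSA.ThompsonNil
import Cfsg.Agent.Solvable.Fitting
import Cfsg.Agent.Solvable.CoprimeAct

/-!
# Alperin's theorem: the derived length is bounded by `p` and the number of fixed points
-/

set_option autoImplicit false
set_option linter.style.haveILetI false

namespace CfsgLib.AlperinBound

open Subgroup
open scoped commutatorElement

variable {Q : Type*} [Group Q] {p : ℕ}

/-- The automorphism induced on an invariant subgroup. -/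
noncomputable def restrictAut [Finite Q] (α : MulAut Q) (U : Subgroup Q)
    (h : ∀ x ∈ U, α x ∈ U) : MulAut U :=
  (α.subgroupMap U).trans (MulEquiv.subgroupCongr (inv_of_le α h))

theorem restrictAut_coe [Finite Q] (α : MulAut Q) (U : Subgroup Q) (h : ∀ x ∈ U, α x ∈ U)
    (x : U) : (restrictAut α U h x : Q) = α x := rfl

theorem restrictAut_pow [Finite Q] (α : MulAut Q) (U : Subgroup Q) (h : ∀ x ∈ U, α x ∈ U)
    (k : ℕ) (x : U) : ((restrictAut α U h ^ k) x : Q) = (α ^ k) x := by
  induction k generalizing x with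
  | zero => rfl
  | succ k ih => rw [pow_succ, pow_succ, MulAut.mul_apply, MulAut.mul_apply, ih, restrictAut_coe]

theorem restrictAut_pow_eq_one [Finite Q] (α : MulAut Q) (U : Subgroup Q)
    (h : ∀ x ∈ U, α x ∈ U) {k : ℕ} (hk : α ^ k = 1) : restrictAut α U h ^ k = 1 :=
  MulEquiv.ext fun x => Subtype.ext (by rw [restrictAut_pow, hk]; rfl)

theorem nfix_restrictAut_le [Finite Q] (α : MulAut Q) (U : Subgroup Q)
    (h : ∀ x ∈ U, α x ∈ U) : nfix (restrictAut α U h) ≤ nfix α :=
  Nat.card_le_card_of_injective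
    (fun x => (⟨(x.1 : Q), congrArg Subtype.val x.2⟩ : {g : Q // α g = g}))
    fun _ _ e => Subtype.ext (Subtype.ext (Subtype.mk.inj e))

/-- In an abelian section iterated powers are powers. -/
theorem pp_le_sup_pw {Y L : Subgroup Q} [L.Normal] (hY : ⁅Y, Y⁆ ≤ L) (k : ℕ) :
    pp p k Y ≤ L ⊔ pw (p ^ k) Y := by
  have hcomm : ∀ a ∈ Y, ∀ b ∈ Y, Commute (a : Q ⧸ L) (b : Q ⧸ L) := by
    intro a ha b hb
    have h1 : ((⁅a, b⁆ : Q) : Q ⧸ L) = 1 :=
      (QuotientGroup.eq_one_iff _).2 (hY (commutator_mem_commutator ha hb))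
    exact commutatorElement_eq_one_iff_commute.1
      ((map_commutatorElement (QuotientGroup.mk' L) a b).symm.trans h1)
  induction k with
  | zero =>
    intro x hx
    refine mem_sup_right ?_
    have h := pow_mem_pw (k := p ^ 0) (N := Y) hx
    rwa [pow_zero, pow_one] at h
  | succ k ih =>
    show pw p (pp p k Y) ≤ _
    refine (pw_mono ih).trans ((pw_sup_le p L _).trans (sup_le le_sup_left ?_))
    refine pw_le_iff.2 fun z hz => ?_
    refine (closure_induction (p := fun z _ => z ∈ Y ∧ z ^ p ∈ L ⊔ pw (p ^ (k + 1)) Y)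
      ?_ ?_ ?_ ?_ hz).2
    · rintro _ ⟨x, hx, rfl⟩
      refine ⟨pow_mem hx _, mem_sup_right ?_⟩
      rw [← pow_mul, ← pow_succ]
      exact pow_mem_pw hx
    · exact ⟨one_mem _, by rw [one_pow]; exact one_mem _⟩
    · rintro a b _ _ ⟨ha, ha'⟩ ⟨hb, hb'⟩
      refine ⟨mul_mem ha hb, ?_⟩
      have h1 : (a * b) ^ p * (a ^ p * b ^ p)⁻¹ ∈ L := by
        rw [← QuotientGroup.eq_one_iff, QuotientGroup.mk_mul, QuotientGroup.mk_inv,
          QuotientGroup.mk_mul, QuotientGroup.mk_pow, QuotientGroup.mk_pow, QuotientGroup.mk_pow,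
          QuotientGroup.mk_mul, (hcomm a ha b hb).mul_pow, mul_inv_cancel]
      have := mul_mem (mem_sup_left (T := pw (p ^ (k + 1)) Y) h1) (mul_mem ha' hb')
      rwa [inv_mul_cancel_right] at this
    · rintro a _ ⟨ha, ha'⟩
      exact ⟨inv_mem ha, by rw [inv_pow]; exact inv_mem ha'⟩

variable {α : MulAut Q} {W N : Subgroup Q}

/-- A good subgroup is a bounded extension of its subgroup of powers. -/
theorem card_le_mul_pw [Finite Q] [Fact p.Prime] (hα : α ^ p = 1) {F : ℕ} (hF : nfix α ≤ F)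
    (H : Hyp p α W) (hN : Good α W N) : Nat.card N ≤ Nat.card (pw p N) * F ^ p := by
  set K := pw p N
  haveI := (hN.pw p).normal
  set π := QuotientGroup.mk' K
  set f : N →* Q ⧸ K := π.comp N.subtype
  have hcomm : ⁅N, N⁆ ≤ K :=
    (commutator_mono le_rfl hN.le).trans ((H N hN).trans ((pw_sq_le N).trans (pw_le _ _)))
  have hker : f.ker = K.subgroupOf N := by
    ext x; exact QuotientGroup.eq_one_iff _
  have hr : Nat.card f.range ≤ F ^ p := by
    refine (card_le_of_elementary (quotAut α K (hN.pw p).inv) (quotAut_pow_eq_one _ _ _ hα) _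
      ?_ ?_ ?_).trans (Nat.pow_le_pow_left ((nfix_quotAut_le _ _ _).trans hF) p)
    · rintro _ ⟨x, rfl⟩
      exact ⟨⟨α x, hN.inv x x.2⟩, rfl⟩
    · rintro _ ⟨x, rfl⟩ _ ⟨y, rfl⟩
      exact commutatorElement_eq_one_iff_commute.1 ((map_commutatorElement π (x : Q) y).symm.trans
        ((QuotientGroup.eq_one_iff _).2 (hcomm (commutator_mem_commutator x.2 y.2))))
    · rintro _ ⟨x, rfl⟩
      exact (map_pow π (x : Q) p).symm.trans ((QuotientGroup.eq_one_iff _).2 (pow_mem_pw x.2))
  rw [← card_mul_index f.ker, Subgroup.index_ker, hker,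
    Nat.card_congr (subgroupOfEquivOfLe (pw_le p N)).toEquiv]
  exact Nat.mul_le_mul le_rfl hr

theorem card_le_pow [Finite Q] [Fact p.Prime] (hα : α ^ p = 1) {F : ℕ} (hF : nfix α ≤ F)
    (H : Hyp p α W) (hN : Good α W N) : ∀ a, Nat.card N ≤ Nat.card (pp p a N) * (F ^ p) ^ a
  | 0 => by simp [pp]
  | a + 1 => by
    calc Nat.card N ≤ Nat.card (pp p a N) * (F ^ p) ^ a := card_le_pow hα hF H hN a
      _ ≤ Nat.card (pp p (a + 1) N) * F ^ p * (F ^ p) ^ a :=
          Nat.mul_le_mul_right _ (card_le_mul_pw hα hF H (hN.pp a))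
      _ = _ := by rw [mul_assoc, ← pow_succ']

/-- The derived length bound for p-groups. -/
def pBound (p F : ℕ) : ℕ :=
  bnd p F + hdeg p + (F ^ p) ^ ((hdeg p + 1) * (expo p F + 1) + expo p F)

theorem derivedSeries_pgroup [Finite Q] [Fact p.Prime] (hQ : IsPGroup p Q) (α : MulAut Q)
    (hα : α ^ p = 1) {F : ℕ} (hF : nfix α ≤ F) : derivedSeries Q (pBound p F) = ⊥ := by
  haveI := hQ.isNilpotent
  set W := core Q (bnd p F)
  have H : Hyp p α W := hyp_core hQ α hα hF
  have hW : Good α W W := good_core α _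
  set h := hdeg p
  set c := expo p F
  set m := c + 1 with hm
  set a := (h + 1) * m + c with ha
  set U := pp p m W
  have hU : Good α W U := hW.pp m
  set β := restrictAut α U hU.inv
  have hfix : ∀ n, ∀ z ∈ GrLie.gam U n, β z * z⁻¹ ∈ GrLie.gam U (n + 1) →
      z ^ p ^ F ∈ GrLie.gam U (n + 1) := by
    intro n z _ hz
    set N := GrLie.gam U (n + 1)
    have hNn : N.Normal := inferInstance
    set γ := quotAut β N fun x hx => GrLie.aut_mem β hx
    have hzfix : γ (z : U ⧸ N) = z := by
      rw [quotAut_mk, ← div_eq_one, div_eq_mul_inv, ← QuotientGroup.mk_inv, ← QuotientGroup.mk_mul,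
        QuotientGroup.eq_one_iff]
      exact hz
    have hle : orderOf (z : U ⧸ N) ≤ F := by
      refine le_trans ?_ ((nfix_quotAut_le β N fun x hx => GrLie.aut_mem β hx).trans
        ((nfix_restrictAut_le α U hU.inv).trans hF))
      rw [← card_fixSub, ← Nat.card_zpowers]
      exact Nat.le_of_dvd Nat.card_pos (card_dvd_of_le (zpowers_le.2 (mem_fixSub.2 hzfix)))
    obtain ⟨e, he⟩ := IsPGroup.iff_orderOf.1 ((hQ.to_subgroup U).to_quotient N) (z : U ⧸ N)
    rw [← QuotientGroup.eq_one_iff, QuotientGroup.mk_pow, ← orderOf_dvd_iff_pow_eq_one, he]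
    exact pow_dvd_pow p ((Nat.lt_pow_self (Fact.out : p.Prime).one_lt).le.trans (he ▸ hle))
  -- the deep term
  have hUdeep : ∀ x ∈ lc U h, x ^ p ^ c ∈ lc U (h + 1) := by
    intro x hx
    rw [← map_lowerCentralSeries_eq] at hx ⊢
    obtain ⟨y, hy, rfl⟩ := hx
    exact ⟨y ^ p ^ c, pow_mem_gam_succ β (restrictAut_pow_eq_one _ _ _ hα) hfix hy, rfl⟩
  set X := lc W h
  have hX : Good α W X := hW.lc h
  set L := lc U (h + 1)
  have hLX : L ≤ pp p (a + 1) X := by
    show lc (pp p m W) (h + 1) ≤ _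
    rw [lc_pp hQ H hW m (h + 1), show (h + 1 + 1) * m = a + 1 by rw [ha, hm]; ring]
    refine pp_mono ?_ _
    haveI := hX.normal
    exact commutator_le_left X W
  have hY : ⁅lc U h, lc U h⁆ ≤ L := by
    have : lc U h ≤ U := by
      rw [← map_lowerCentralSeries_eq]; exact map_subtype_le _
    exact commutator_mono le_rfl this
  haveI hLn : L.Normal := by
    show (lc (pp p m W) (h + 1)).Normal
    rw [lc_pp hQ H hW m (h + 1)]
    exact ((hW.lc (h + 1)).pp _).normal
  have hfin : pp p a X ≤ pp p (a + 1) X := by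
    have e : pp p a X = pp p c (lc U h) := by
      show _ = pp p c (lc (pp p m W) h)
      rw [lc_pp hQ H hW m h, ← pp_add, ha, add_comm]
    rw [e]
    exact (pp_le_sup_pw hY c).trans (sup_le hLX ((pw_le_iff.2 hUdeep).trans hLX))
  have hbot : pp p a X = ⊥ := by
    by_contra hne
    exact (pw_lt hQ hne).not_ge hfin
  have hcard : Nat.card X ≤ (F ^ p) ^ a := by
    have := card_le_pow hα hF H hX a
    rwa [hbot, card_bot, one_mul] at this
  have hdX : derivedSeries X ((F ^ p) ^ a) = ⊥ := derivedSeries_eq_bot_of_card_le hcard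
  have hWX : derivedSeries Q (bnd p F + h) ≤ X := by
    refine (derivedSeries_add_le W (derivedSeries_le_core _) h).trans ?_
    show _ ≤ lc W h
    rw [← map_lowerCentralSeries_eq]
    exact map_mono (Subgroup.derived_le_lower_central h)
  exact derivedSeries_eq_bot_add hWX hdX

/-- The total bound. -/
def totalBound (p F : ℕ) : ℕ :=
  hdeg p + ((F ^ p) ^ (F ^ p) + pBound p F)

theorem derivedSeries_solvable {G : Type*} [Group G] [Finite G] [Group.IsSolvable G] [Fact p.Prime]
    (α : MulAut G) (hα : α ^ p = 1) (n : ℕ) (hfix : nfix α = p ^ n) :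
    derivedSeries G (totalBound p (p ^ n)) = ⊥ := by
  set F := p ^ n
  set M := Cfsg.pPrimeCore p G
  have hMi : ∀ x ∈ M, α x ∈ M := fun x hx =>
    Solvable.le_pPrimeCore p (N := M.map α.toMonoidHom)
      (Subgroup.Normal.map inferInstance _ α.surjective)
      (by rw [card_map_of_injective (f := α.toMonoidHom) α.injective]
          exact Solvable.coprime_card_pPrimeCore p) ⟨x, hx, rfl⟩
  set β := restrictAut α M hMi
  have hβfpf : ∀ x : M, β x = x → x = 1 := by
    intro x hx
    have h1 : orderOf (x : G) ∣ p ^ n := by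
      have hmem : (x : G) ∈ fixSub α := congrArg Subtype.val hx
      rw [← Subgroup.orderOf_mk (H := fixSub α) (x : G) hmem]
      exact (_root_.orderOf_dvd_natCard _).trans (by rw [card_fixSub, hfix])
    have h2 : orderOf (x : G) ∣ Nat.card M := by
      rw [Subgroup.orderOf_coe]; exact _root_.orderOf_dvd_natCard x
    exact Subtype.ext (orderOf_eq_one_iff.1 (Nat.eq_one_of_dvd_coprimes
      (((Solvable.coprime_card_pPrimeCore (G := G) p).symm).pow_left n) h1 h2))
  have hβp : β ^ p = 1 := restrictAut_pow_eq_one _ _ _ hα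
  have hMd : derivedSeries M (hdeg p) = ⊥ := by
    refine le_bot_iff.1 ((Subgroup.derived_le_lower_central _).trans (le_of_eq ?_))
    exact (Higman.class_le (p := p) β hβp hβfpf
      (ThompsonNil.isNilpotent (Fact.out : p.Prime) β hβp hβfpf)).2
  -- the quotient
  set Gq := G ⧸ M
  haveI : Group.IsSolvable Gq := Group.isSolvable_of_surjective (QuotientGroup.mk'_surjective M)
  set γ : MulAut Gq := quotAut α M hMi
  have hγp : γ ^ p = 1 := quotAut_pow_eq_one _ _ _ hα
  have hγF : nfix γ ≤ F := (nfix_quotAut_le _ _ _).trans hfix.le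
  set P := Cfsg.pCore p Gq
  have hPp : IsPGroup p P := Solvable.isPGroup_pCore p
  have hPi : ∀ x ∈ P, γ x ∈ P := fun x hx =>
    Solvable.le_pCore p (N := P.map γ.toMonoidHom)
      (Subgroup.Normal.map inferInstance _ γ.surjective) (hPp.map _) ⟨x, hx, rfl⟩
  have hPd : derivedSeries P (pBound p F) = ⊥ :=
    derivedSeries_pgroup hPp (restrictAut γ P hPi) (restrictAut_pow_eq_one _ _ _ hγp)
      ((nfix_restrictAut_le _ _ _).trans hγF)
  set K : Subgroup Gq := ⁅P, P⁆ ⊔ pw p P
  have hgoodP : Good γ P P := ⟨le_rfl, inferInstance, hPi⟩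
  have hK : Good γ P K := by
    have h1 := hgoodP.comm hgoodP
    have h2 := hgoodP.pw p
    haveI := h1.normal
    haveI := h2.normal
    refine ⟨sup_le h1.le h2.le, inferInstance, fun x hx => ?_⟩
    suffices K ≤ K.comap γ.toMonoidHom from this hx
    exact sup_le (fun y hy => mem_sup_left (h1.inv y hy)) (fun y hy => mem_sup_right (h2.inv y hy))
  haveI := hK.normal
  set π := QuotientGroup.mk' K
  set A := P.map π
  haveI : A.Normal := Subgroup.Normal.map inferInstance π (QuotientGroup.mk'_surjective K)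
  have hA : Nat.card A ≤ F ^ p := by
    refine (card_le_of_elementary (quotAut γ K hK.inv) (quotAut_pow_eq_one _ _ _ hγp) A
      ?_ ?_ ?_).trans (Nat.pow_le_pow_left ((nfix_quotAut_le _ _ _).trans hγF) p)
    · rintro _ ⟨x, hx, rfl⟩; exact ⟨γ x, hPi x hx, rfl⟩
    · rintro _ ⟨x, hx, rfl⟩ _ ⟨y, hy, rfl⟩
      exact commutatorElement_eq_one_iff_commute.1 ((map_commutatorElement π x y).symm.trans
        ((QuotientGroup.eq_one_iff _).2 (mem_sup_left (commutator_mem_commutator hx hy))))
    · rintro _ ⟨x, hx, rfl⟩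
      exact (map_pow π x p).symm.trans ((QuotientGroup.eq_one_iff _).2 (mem_sup_right (pow_mem_pw hx)))
  set φ : Gq →* MulAut A := (MulAut.conjNormal : Gq ⧸ K →* MulAut A).comp π
  have hkerP : φ.ker ≤ P := by
    refine Solvable.le_pCore p inferInstance ?_
    by_contra hne
    obtain ⟨r, hr, hrd, hrp⟩ : ∃ r, r.Prime ∧ r ∣ Nat.card φ.ker ∧ r ≠ p := by
      by_contra hall
      push Not at hall
      exact hne (IsPGroup.of_card
        (Nat.eq_prime_pow_of_unique_prime_dvd Nat.card_pos.ne' fun hd hdd => hall _ hd hdd))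
    haveI := Fact.mk hr
    obtain ⟨x, hx⟩ := exists_prime_orderOf_dvd_card' (G := φ.ker) r hrd
    set T := zpowers (x : Gq)
    have hTc : T ≤ centralizer (P : Set Gq) := by
      refine CoprimeAct.trivial_on_frattini_quotient ?_ ?_ ?_
      · exact (le_top : T ≤ ⊤).trans (normalizer_eq_top_iff.2 inferInstance).ge
      · rw [Nat.card_zpowers, Subgroup.orderOf_coe, hx]
        obtain ⟨k, hk⟩ := IsPGroup.iff_card.1 (hPp.to_subgroup (frattini P))
        rw [hk]
        exact ((Nat.coprime_primes hr Fact.out).2 hrp).pow_right k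
      · intro t ht k hk
        have hKΦ : K ≤ (frattini P).map P.subtype := by
          refine sup_le ?_ (pw_le_iff.2 fun y hy =>
            ⟨⟨y, hy⟩ ^ p, (PGroupBasic.commutator_pow_le_frattini hPp).2 _, rfl⟩)
          rw [← map_subtype_commutator]
          exact map_mono (PGroupBasic.commutator_pow_le_frattini hPp).1
        refine hKΦ ?_
        have htk : φ t = 1 := by
          obtain ⟨i, rfl⟩ := mem_zpowers_iff.1 ht
          rw [map_zpow, MonoidHom.mem_ker.1 x.2, one_zpow]
        rw [← QuotientGroup.eq_one_iff]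
        have e := congrArg (fun f : MulAut A => ((f ⟨π k, k, hk, rfl⟩ : A) : Gq ⧸ K)) htk
        simp only [φ, MonoidHom.comp_apply, MulAut.conjNormal_apply, MulAut.one_apply] at e
        show π (t * k * t⁻¹ * k⁻¹) = 1
        rw [map_mul, map_mul, map_mul, map_inv, map_inv, e, mul_inv_cancel]
    have hxP : (x : Gq) ∈ P :=
      Fitting.centralizer_pCore_le (Fitting.pPrimeCore_quotient_eq_bot p)
        (hTc (mem_zpowers _))
    obtain ⟨e, he⟩ := IsPGroup.iff_orderOf.1 hPp ⟨x, hxP⟩
    have hr' : orderOf (⟨(x : Gq), hxP⟩ : P) = r := by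
      rw [← Subgroup.orderOf_coe]; exact (Subgroup.orderOf_coe x).trans hx
    rw [hr'] at he
    exact hrp ((Nat.prime_dvd_prime_iff_eq hr Fact.out).1
      (hr.dvd_of_dvd_pow (Dvd.intro 1 (by rw [mul_one, he]) : r ∣ p ^ e)))
  have hidx : Nat.card (Gq ⧸ P) ≤ (F ^ p) ^ (F ^ p) := by
    rw [← index_eq_card]
    refine (Nat.le_of_dvd (Nat.pos_of_ne_zero index_ne_zero_of_finite) (index_dvd_of_le hkerP)).trans ?_
    rw [index_ker]
    refine (Nat.card_le_card_of_injective (fun x : φ.range => x.1) Subtype.val_injective).trans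
      ((card_mulAut_le A).trans ?_)
    exact (Nat.pow_le_pow_left hA _).trans
      (Nat.pow_le_pow_right (pow_pos (pow_pos (Fact.out : p.Prime).pos n) p) hA)
  haveI : Group.IsSolvable (Gq ⧸ P) :=
    Group.isSolvable_of_surjective (QuotientGroup.mk'_surjective P)
  have hGq : derivedSeries Gq ((F ^ p) ^ (F ^ p) + pBound p F) = ⊥ :=
    derivedSeries_eq_bot_add (derivedSeries_le_of_quotient P (derivedSeries_eq_bot_of_card_le hidx))
      hPd
  show derivedSeries G (hdeg p + ((F ^ p) ^ (F ^ p) + pBound p F)) = ⊥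
  rw [add_comm]
  exact derivedSeries_eq_bot_add (derivedSeries_le_of_quotient M hGq) hMd

end CfsgLib.AlperinBound
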