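import Mathlib.GroupTheory.Commutator.Basic
import Mathlib.GroupTheory.Nilpotent
import Mathlib.GroupTheory.GroupAction.ConjAct
import Cfsg.Agent.AlperinBound.Fixed
import Cfsg.Agent.Solvable.PGroupBasic
import Cfsg.Agent.Coprime.Sylow

/-!
# A characteristic subgroup of a p-group in which powers and commutators interchange

If every invariant normal subgroup `N` below `W` satisfies `[N, W] ≤ N^(p^2)` then
`[N^p, W] = [N, W]^p`, and such a `W` is found with a bounded-derived-length quotient when an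
automorphism of order `p` has few fixed points.
-/

set_option autoImplicit false
set_option linter.style.haveILetI false

namespace CfsgLib.AlperinBound

open Subgroup
open scoped commutatorElement

variable {Q : Type*} [Group Q] {p : ℕ}

/-- The subgroup generated by the `k`-th powers. -/
def pw (k : ℕ) (N : Subgroup Q) : Subgroup Q := closure ((fun x => x ^ k) '' (N : Set Q))

theorem pow_mem_pw {k : ℕ} {N : Subgroup Q} {x : Q} (hx : x ∈ N) : x ^ k ∈ pw k N :=
  subset_closure ⟨x, hx, rfl⟩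

theorem pw_le_iff {k : ℕ} {N K : Subgroup Q} : pw k N ≤ K ↔ ∀ x ∈ N, x ^ k ∈ K := by
  rw [pw, closure_le]
  exact ⟨fun h x hx => h ⟨x, hx, rfl⟩, fun h _ ⟨x, hx, e⟩ => e ▸ h x hx⟩

theorem pw_le (k : ℕ) (N : Subgroup Q) : pw k N ≤ N := pw_le_iff.2 fun _ hx => pow_mem hx k

theorem pw_mono {k : ℕ} {N M : Subgroup Q} (h : N ≤ M) : pw k N ≤ pw k M :=
  pw_le_iff.2 fun _ hx => pow_mem_pw (h hx)

theorem pw_sq_le (N : Subgroup Q) : pw (p ^ 2) N ≤ pw p (pw p N) :=
  pw_le_iff.2 fun x hx => by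
    rw [pow_two, pow_mul]; exact pow_mem_pw (pow_mem_pw hx)

theorem pw_sup_le (k : ℕ) (L X : Subgroup Q) [L.Normal] : pw k (L ⊔ X) ≤ L ⊔ pw k X := by
  refine pw_le_iff.2 fun z hz => ?_
  obtain ⟨l, hl, x, hx, rfl⟩ := mem_sup_of_normal_left.1 hz
  have h : (l * x) ^ k * (x ^ k)⁻¹ ∈ L := by
    rw [← QuotientGroup.eq_one_iff, QuotientGroup.mk_mul, QuotientGroup.mk_inv,
      QuotientGroup.mk_pow, QuotientGroup.mk_mul, (QuotientGroup.eq_one_iff l).2 hl, one_mul,
      QuotientGroup.mk_pow, mul_inv_cancel]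
  rw [show (l * x) ^ k = (l * x) ^ k * (x ^ k)⁻¹ * x ^ k by group]
  exact mul_mem (mem_sup_left h) (mem_sup_right (pow_mem_pw hx))

/-- Iterated `p`-th powers. -/
def pp (p : ℕ) : ℕ → Subgroup Q → Subgroup Q
  | 0, N => N
  | k + 1, N => pw p (pp p k N)

theorem pp_add (a : ℕ) (N : Subgroup Q) : ∀ b, pp p (b + a) N = pp p b (pp p a N)
  | 0 => by rw [zero_add]; rfl
  | b + 1 => by rw [Nat.succ_add]; exact congrArg (pw p) (pp_add a N b)

theorem pp_anti (N : Subgroup Q) {a b : ℕ} (h : a ≤ b) : pp p b N ≤ pp p a N := by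
  induction h with
  | refl => exact le_rfl
  | step _ ih => exact (pw_le _ _).trans ih

theorem pp_mono {N M : Subgroup Q} (h : N ≤ M) : ∀ k, pp p k N ≤ pp p k M
  | 0 => h
  | k + 1 => pw_mono (pp_mono h k)

/-- A `p`-group is not generated by its `p`-th powers. -/
theorem pw_lt [Finite Q] [Fact p.Prime] (hQ : IsPGroup p Q) {Y : Subgroup Q} (hY : Y ≠ ⊥) :
    pw p Y < Y := by
  refine lt_of_le_of_ne (pw_le _ _) fun h => ?_
  haveI : Nontrivial Y := (nontrivial_iff_ne_bot _).2 hY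
  obtain ⟨M, hM, -⟩ := (eq_top_or_exists_le_coatom (⊥ : Subgroup Y)).resolve_left bot_ne_top
  have hle : pw p Y ≤ M.map Y.subtype := pw_le_iff.2 fun x hx =>
    ⟨⟨x, hx⟩ ^ p,
      (frattini_le_coatom hM) ((PGroupBasic.commutator_pow_le_frattini (hQ.to_subgroup Y)).2 _),
      rfl⟩
  rw [h] at hle
  refine hM.1 (eq_top_iff.2 fun y _ => ?_)
  obtain ⟨z, hz, e⟩ := hle y.2
  exact Subtype.ext e ▸ hz

theorem exists_pp_eq_bot [Finite Q] [Fact p.Prime] (hQ : IsPGroup p Q) (Y : Subgroup Q) :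
    ∃ k, pp p k Y = ⊥ := by
  suffices ∀ n, ∀ Y : Subgroup Q, Nat.card Y = n → ∃ k, pp p k Y = ⊥ from this _ Y rfl
  intro n
  induction n using Nat.strong_induction_on with
  | _ n ih =>
    intro Y hn
    by_cases hY : Y = ⊥
    · exact ⟨0, hY⟩
    have hlt : Nat.card (pw p Y) < n := by
      rw [← hn]
      by_contra hle
      exact (pw_lt hQ hY).ne (eq_of_le_of_card_ge (pw_le _ _) (not_lt.1 hle))
    obtain ⟨k, hk⟩ := ih _ hlt _ rfl
    exact ⟨k + 1, by rw [pp_add 1]; exact hk⟩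

/-- An invariant normal subgroup below `W`. -/
structure Good (α : MulAut Q) (W N : Subgroup Q) : Prop where
  le : N ≤ W
  normal : N.Normal
  inv : ∀ x ∈ N, α x ∈ N

variable {α : MulAut Q} {W N M : Subgroup Q}

theorem Good.pw (h : Good α W N) (k : ℕ) : Good α W (pw k N) := by
  refine ⟨(pw_le k N).trans h.le, ⟨fun n hn g => ?_⟩, fun x hx => ?_⟩
  · suffices AlperinBound.pw k N ≤ (AlperinBound.pw k N).comap (MulAut.conj g).toMonoidHom from
      this hn
    refine pw_le_iff.2 fun x hx => mem_comap.2 ?_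
    show MulAut.conj g (x ^ k) ∈ AlperinBound.pw k N
    rw [map_pow]
    exact pow_mem_pw (h.normal.conj_mem x hx g)
  · suffices AlperinBound.pw k N ≤ (AlperinBound.pw k N).comap α.toMonoidHom from this hx
    refine pw_le_iff.2 fun x hx => mem_comap.2 ?_
    show α (x ^ k) ∈ AlperinBound.pw k N
    rw [map_pow]
    exact pow_mem_pw (h.inv x hx)

theorem Good.pp (h : Good α W N) : ∀ k, Good α W (pp p k N)
  | 0 => h
  | k + 1 => (Good.pp h k).pw p

theorem Good.comm (hN : Good α W N) (hM : Good α W M) : Good α W ⁅N, M⁆ := by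
  haveI := hN.normal
  haveI := hM.normal
  refine ⟨(commutator_le_left N M).trans hN.le, inferInstance, fun x hx => ?_⟩
  suffices ⁅N, M⁆ ≤ ⁅N, M⁆.comap α.toMonoidHom from this hx
  refine commutator_le.2 fun a ha b hb => mem_comap.2 ?_
  show α ⁅a, b⁆ ∈ ⁅N, M⁆
  rw [map_commutatorElement]
  exact commutator_mem_commutator (hN.inv a ha) (hM.inv b hb)

theorem commutatorElement_pow_left {x w : Q} (h : Commute ⁅x, w⁆ x) (k : ℕ) :
    ⁅x ^ k, w⁆ = ⁅x, w⁆ ^ k := by
  induction k with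
  | zero => simp
  | succ k ih =>
    have e : ⁅x * x ^ k, w⁆ = x * ⁅x ^ k, w⁆ * x⁻¹ * ⁅x, w⁆ := by
      simp only [commutatorElement_def]; group
    rw [pow_succ', e, ih, ← (h.pow_left k).eq, mul_inv_cancel_right, pow_succ]

/-- The hypothesis on `W`. -/
def Hyp (p : ℕ) (α : MulAut Q) (W : Subgroup Q) : Prop :=
  ∀ N, Good α W N → ⁅N, W⁆ ≤ pw (p ^ 2) N

theorem pw_commutator [Finite Q] [Fact p.Prime] (hQ : IsPGroup p Q) (H : Hyp p α W)
    (hN : Good α W N) (hM : Good α W M) : ⁅pw p N, M⁆ = pw p ⁅N, M⁆ := by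
  have hZ := hN.comm hM
  set Z := ⁅N, M⁆ with hZdef
  have hZW : ⁅Z, W⁆ ≤ pp p 2 Z := (H Z hZ).trans (pw_sq_le Z)
  -- commutation modulo a normal subgroup containing `Z^(p²)`
  have hcent : ∀ (K : Subgroup Q) [K.Normal], pp p 2 Z ≤ K → ∀ z ∈ Z, ∀ w ∈ W,
      Commute (z : Q ⧸ K) (w : Q ⧸ K) := by
    intro K _ hK z hz w hw
    have h1 : ((⁅z, w⁆ : Q) : Q ⧸ K) = 1 :=
      (QuotientGroup.eq_one_iff _).2 (hK (hZW (commutator_mem_commutator hz hw)))
    exact commutatorElement_eq_one_iff_commute.1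
      ((map_commutatorElement (QuotientGroup.mk' K) z w).symm.trans h1)
  have hcalc : ∀ (K : Subgroup Q) [K.Normal], pp p 2 Z ≤ K → ∀ x ∈ N, ∀ m ∈ M,
      ((⁅x ^ p, m⁆ : Q) : Q ⧸ K) = ((⁅x, m⁆ ^ p : Q) : Q ⧸ K) := by
    intro K _ hK x hx m hm
    have hc := hcent K hK _ (commutator_mem_commutator hx hm) x (hN.le hx)
    have e := map_commutatorElement (QuotientGroup.mk' K) x m
    have hc' : Commute ⁅(x : Q ⧸ K), (m : Q ⧸ K)⁆ (x : Q ⧸ K) := by
      rw [show ⁅(x : Q ⧸ K), (m : Q ⧸ K)⁆ = ((⁅x, m⁆ : Q) : Q ⧸ K) from e.symm]; exact hc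
    calc ((⁅x ^ p, m⁆ : Q) : Q ⧸ K) = ⁅(x : Q ⧸ K) ^ p, (m : Q ⧸ K)⁆ :=
          (map_commutatorElement (QuotientGroup.mk' K) (x ^ p) m)
      _ = ⁅(x : Q ⧸ K), (m : Q ⧸ K)⁆ ^ p := commutatorElement_pow_left hc' p
      _ = _ := by
          rw [show ⁅(x : Q ⧸ K), (m : Q ⧸ K)⁆ = ((⁅x, m⁆ : Q) : Q ⧸ K) from e.symm]
          rfl
  apply le_antisymm
  · haveI := (hZ.pw p).normal
    refine commutator_le.2 fun y hy m hm => ?_
    refine closure_induction (p := fun y _ => ⁅y, m⁆ ∈ pw p Z) ?_ ?_ ?_ ?_ hy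
    · rintro _ ⟨x, hx, rfl⟩
      rw [← QuotientGroup.eq_one_iff, hcalc (pw p Z) (pw_le p _) x hx m hm, QuotientGroup.eq_one_iff]
      exact pow_mem_pw (commutator_mem_commutator hx hm)
    · rw [commutatorElement_one_left]; exact one_mem _
    · intro a b _ _ ha hb
      rw [show ⁅a * b, m⁆ = a * ⁅b, m⁆ * a⁻¹ * ⁅a, m⁆ by simp only [commutatorElement_def]; group]
      exact mul_mem (Subgroup.Normal.conj_mem inferInstance _ hb a) ha
    · intro a _ ha
      rw [show ⁅a⁻¹, m⁆ = a⁻¹ * ⁅a, m⁆⁻¹ * (a⁻¹)⁻¹ by simp only [commutatorElement_def]; group]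
      exact Subgroup.Normal.conj_mem inferInstance _ (inv_mem ha) _
  · have hL := (hN.pw p).comm hM
    haveI := hL.normal
    set L := ⁅pw p N, M⁆
    have key : pw p Z ≤ L ⊔ pp p 1 (pw p Z) := by
      set K := L ⊔ pp p 1 (pw p Z)
      haveI : (pp p 1 (pw p Z)).Normal := (((hZ.pw p).pp) 1).normal
      have hK : pp p 2 Z ≤ K := le_sup_right
      refine pw_le_iff.2 fun z hz => ?_
      rw [← QuotientGroup.eq_one_iff, QuotientGroup.mk_pow]
      refine (closure_induction (p := fun z _ => z ∈ Z ∧ (z : Q ⧸ K) ^ p = 1) ?_ ?_ ?_ ?_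
        (show z ∈ closure {g | ∃ a ∈ N, ∃ b ∈ M, ⁅a, b⁆ = g} by
          rw [← Subgroup.commutator_def]; exact hz)).2
      · rintro _ ⟨a, ha, b, hb, rfl⟩
        refine ⟨commutator_mem_commutator ha hb, ?_⟩
        rw [← QuotientGroup.mk_pow, ← hcalc K hK a ha b hb, QuotientGroup.eq_one_iff]
        exact mem_sup_left (commutator_mem_commutator (pow_mem_pw ha) hb)
      · exact ⟨one_mem _, one_pow p⟩
      · rintro a b _ _ ⟨ha, ha'⟩ ⟨hb, hb'⟩
        refine ⟨mul_mem ha hb, ?_⟩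
        rw [QuotientGroup.mk_mul, (hcent K hK a ha b (hZ.le hb)).mul_pow, ha', hb', one_mul]
      · rintro a _ ⟨ha, ha'⟩
        exact ⟨inv_mem ha, by rw [QuotientGroup.mk_inv, inv_pow, ha', inv_one]⟩
    have hk : ∀ k, pw p Z ≤ L ⊔ pp p k (pw p Z) := by
      intro k
      induction k with
      | zero => exact le_sup_right
      | succ k ih =>
        calc pw p Z ≤ L ⊔ pp p 1 (pw p Z) := key
          _ ≤ L ⊔ pw p (L ⊔ pp p k (pw p Z)) := sup_le_sup_left (pw_mono ih) _
          _ ≤ L ⊔ (L ⊔ pp p (k + 1) (pw p Z)) := sup_le_sup_left (pw_sup_le p L _) _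
          _ = _ := by rw [← sup_assoc, sup_idem]
    obtain ⟨k, hkb⟩ := exists_pp_eq_bot hQ (pw p Z)
    have := hk k
    rwa [hkb, sup_bot_eq] at this

theorem pp_commutator [Finite Q] [Fact p.Prime] (hQ : IsPGroup p Q) (H : Hyp p α W)
    (hN : Good α W N) (hM : Good α W M) (a b : ℕ) :
    ⁅pp p a N, pp p b M⁆ = pp p (a + b) ⁅N, M⁆ := by
  have hr : ∀ b, ⁅N, pp p b M⁆ = pp p b ⁅N, M⁆ := by
    intro b
    induction b with
    | zero => rfl
    | succ b ih =>
      rw [Subgroup.commutator_comm]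
      show ⁅pw p (pp p b M), N⁆ = pw p (pp p b ⁅N, M⁆)
      rw [pw_commutator hQ H (hM.pp b) hN, Subgroup.commutator_comm, ih]
  induction a with
  | zero => rw [zero_add]; exact hr b
  | succ a ih =>
    rw [Nat.succ_add]
    show ⁅pw p (pp p a N), pp p b M⁆ = pw p (pp p (a + b) ⁅N, M⁆)
    rw [pw_commutator hQ H (hN.pp a) (hM.pp b), ih]

/-- The lower central series of a subgroup, inside the group. -/
def lc (U : Subgroup Q) : ℕ → Subgroup Q
  | 0 => U
  | n + 1 => ⁅lc U n, U⁆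

theorem Good.lc (hW : Good α W W) : ∀ n, Good α W (lc W n)
  | 0 => hW
  | n + 1 => (Good.lc hW n).comm hW

theorem map_lowerCentralSeries_eq (U : Subgroup Q) (n : ℕ) :
    ((⊤ : Subgroup U).lowerCentralSeries n).map U.subtype = lc U n := by
  induction n with
  | zero => exact (MonoidHom.range_eq_map _).symm.trans U.range_subtype
  | succ n ih =>
    show Subgroup.map U.subtype ⁅_, (⊤ : Subgroup U)⁆ = _
    rw [map_commutator, ih, ← MonoidHom.range_eq_map, range_subtype]
    rfl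

theorem lc_pp [Finite Q] [Fact p.Prime] (hQ : IsPGroup p Q) (H : Hyp p α W) (hW : Good α W W)
    (m : ℕ) : ∀ n, lc (pp p m W) n = pp p ((n + 1) * m) (lc W n)
  | 0 => by rw [zero_add, one_mul]; rfl
  | n + 1 => by
    show ⁅lc (pp p m W) n, pp p m W⁆ = _
    rw [lc_pp hQ H hW m n, pp_commutator hQ H (hW.lc n) hW,
      show (n + 1 + 1) * m = (n + 1) * m + m by ring]
    rfl

/-- Elementary bound on the automorphism group. -/
theorem card_mulAut_le (A : Type*) [Group A] [Finite A] :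
    Nat.card (MulAut A) ≤ Nat.card A ^ Nat.card A := by
  rw [← Nat.card_fun]
  exact Nat.card_le_card_of_injective (fun f : MulAut A => (f : A → A)) DFunLike.coe_injective

/-- The bound on the index used to define `W`. -/
def bnd (p F : ℕ) : ℕ := ((F ^ p) ^ 2) ^ ((F ^ p) ^ 2)

/-- The intersection of the normal subgroups of index at most `B`. -/
def core (Q : Type*) [Group Q] (B : ℕ) : Subgroup Q :=
  ⨅ K : {K : Subgroup Q // K.Normal ∧ K.index ≤ B}, (K : Subgroup Q)

theorem mem_core {B : ℕ} {x : Q} :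
    x ∈ core Q B ↔ ∀ K : Subgroup Q, K.Normal → K.index ≤ B → x ∈ K := by
  simp only [core, mem_iInf, Subtype.forall, and_imp]

theorem good_core (α : MulAut Q) (B : ℕ) : Good α (core Q B) (core Q B) := by
  refine ⟨le_rfl, ⟨fun n hn g => ?_⟩, fun x hx => ?_⟩
  · exact mem_core.2 fun K hK hi => hK.conj_mem n (mem_core.1 hn K hK hi) g
  · refine mem_core.2 fun K hK hi => ?_
    have hKn : (K.comap α.toMonoidHom).Normal := hK.comap _
    exact mem_core.1 hx _ hKn (by rwa [index_comap_of_surjective _ α.surjective])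

theorem derivedSeries_le_core [Finite Q] [Group.IsSolvable Q] (B : ℕ) :
    derivedSeries Q B ≤ core Q B := fun x hx => mem_core.2 fun K hK hi => by
  haveI := hK
  exact derivedSeries_le_of_quotient K
    (derivedSeries_eq_bot_of_card_le ((le_of_eq (index_eq_card K).symm).trans hi)) hx

/-- Invariant normal subgroups below the core are powerfully embedded in it. -/
theorem hyp_core [Finite Q] [Fact p.Prime] (hQ : IsPGroup p Q) (α : MulAut Q) (hα : α ^ p = 1)
    {F : ℕ} (hF : nfix α ≤ F) : Hyp p α (core Q (bnd p F)) := by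
  intro N hN
  set W := core Q (bnd p F)
  set K := pw (p ^ 2) N
  haveI := (hN.pw (p ^ 2)).normal
  haveI := hN.normal
  set π := QuotientGroup.mk' K
  set β := quotAut α K (hN.pw (p ^ 2)).inv
  have hβp : β ^ p = 1 := quotAut_pow_eq_one _ _ _ hα
  have hβF : nfix β ≤ F := (nfix_quotAut_le _ _ _).trans hF
  set N' := N.map π
  have hN'n : N'.Normal := hN.normal.map π (QuotientGroup.mk'_surjective K)
  have hN'i : ∀ x ∈ N', β x ∈ N' := by
    rintro _ ⟨x, hx, rfl⟩; exact ⟨α x, hN.inv x hx, rfl⟩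
  have hN'e : ∀ x ∈ N', x ^ p ^ 2 = 1 := by
    rintro _ ⟨x, hx, rfl⟩
    rw [← map_pow]; exact (QuotientGroup.eq_one_iff _).2 (pow_mem_pw hx)
  -- abelian invariant normal subgroups of `N'` are centralised by `W`
  have hcen : ∀ A : Subgroup (Q ⧸ K), A ≤ N' → A.Normal → (∀ x ∈ A, β x ∈ A) →
      (∀ x ∈ A, ∀ y ∈ A, x * y = y * x) → ∀ a ∈ A, ∀ w ∈ W, Commute a (π w) := by
    intro A hAN hAn hAi hAc a ha w hw
    haveI := hAn
    set φ : Q →* MulAut A := (MulAut.conjNormal : Q ⧸ K →* MulAut A).comp π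
    have hcard : Nat.card A ≤ (F ^ p) ^ 2 :=
      (card_le_of_abelian β hβp 2 A hAi hAc fun x hx => hN'e x (hAN hx)).trans
        (Nat.pow_le_pow_left (Nat.pow_le_pow_left hβF p) 2)
    have hidx : φ.ker.index ≤ bnd p F := by
      rw [index_ker]
      refine (Nat.card_le_card_of_injective (fun x : φ.range => x.1) Subtype.val_injective).trans
        ((card_mulAut_le A).trans ?_)
      exact (Nat.pow_le_pow_left hcard _).trans
        (Nat.pow_le_pow_right (pow_pos (pow_pos ((nfix_pos β).trans_le hβF) p) 2) hcard)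
    have hk : φ w = 1 := mem_core.1 hw φ.ker inferInstance hidx
    have e := congrArg (fun f : MulAut A => ((f ⟨a, ha⟩ : A) : Q ⧸ K)) hk
    simp only [φ, MonoidHom.comp_apply, MulAut.conjNormal_apply, MulAut.one_apply] at e
    exact (mul_inv_eq_iff_eq_mul.1 e).symm
  -- a maximal abelian invariant normal subgroup
  set S : Set (Subgroup (Q ⧸ K)) :=
    {A | A ≤ N' ∧ A.Normal ∧ (∀ x ∈ A, β x ∈ A) ∧ ∀ x ∈ A, ∀ y ∈ A, x * y = y * x}
  have hSne : S.Nonempty := ⟨⊥, bot_le, inferInstance,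
    fun x hx => by rw [mem_bot.1 hx, map_one]; exact one_mem _,
    fun x hx y hy => by rw [mem_bot.1 hx, one_mul, mul_one]⟩
  obtain ⟨A, hAS, hmax⟩ := S.toFinite.exists_maximal hSne
  obtain ⟨hAN, hAn, hAi, hAc⟩ := hAS
  have hcA := hcen A hAN hAn hAi hAc
  have hAeq : N' ≤ A := by
    by_contra hne
    haveI := hAn
    haveI := hN'n
    set ρ := QuotientGroup.mk' A
    set γ := quotAut β A hAi
    set Y := N'.map ρ
    haveI : Y.Normal := hN'n.map ρ (QuotientGroup.mk'_surjective A)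
    have hY : Y ≠ ⊥ := by
      rw [Ne, Subgroup.map_eq_bot_iff, QuotientGroup.ker_mk']; exact hne
    have hQA : IsPGroup p ((Q ⧸ K) ⧸ A) := (hQ.to_quotient K).to_quotient A
    haveI := hQA.isNilpotent
    set Y' := Y ⊓ center ((Q ⧸ K) ⧸ A) with hY'def
    have hY' : Y' ≠ ⊥ := PGroupBasic.inf_center_ne_bot Y hY
    letI : MulDistribMulAction (Subgroup.zpowers γ) ((Q ⧸ K) ⧸ A) :=
      MulDistribMulAction.compHom _ (Subgroup.zpowers γ).subtype
    have hzp : IsPGroup p (Subgroup.zpowers γ) := fun x => ⟨1, by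
      rw [pow_one]
      apply Subtype.ext
      obtain ⟨i, hi⟩ := mem_zpowers_iff.1 x.2
      rw [SubgroupClass.coe_pow, ← hi, ← zpow_natCast, ← zpow_mul, mul_comm, zpow_mul,
        zpow_natCast, quotAut_pow_eq_one _ _ _ hβp, one_zpow]
      rfl⟩
    have hinv1 : ∀ y ∈ Y', γ y ∈ Y' := by
      rintro _ ⟨⟨z, hz, rfl⟩, hz2⟩
      refine ⟨⟨β z, hN'i z hz, rfl⟩, mem_center_iff.2 fun g => ?_⟩
      obtain ⟨g', rfl⟩ := γ.surjective g
      rw [← map_mul, ← map_mul, mem_center_iff.1 hz2]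
    have hinv : Coprime.IsInvariant (Subgroup.zpowers γ) Y' := fun t y hy => by
      obtain ⟨i, hi⟩ := ((isOfFinOrder_of_finite γ).mem_powers_iff_mem_zpowers).2 t.2
      show (t : MulAut ((Q ⧸ K) ⧸ A)) y ∈ Y'
      rw [← hi]
      clear hi t
      induction i generalizing y with
      | zero => exact hy
      | succ i ih => show (γ ^ (i + 1)) y ∈ Y'; rw [pow_succ]; exact ih _ (hinv1 y hy)
    haveI : Nontrivial Y' := (nontrivial_iff_ne_bot _).2 hY'
    obtain ⟨y, hyY, hy1, hyfix⟩ := Coprime.exists_fixed_ne_one_of_isPGroup hzp Y' hinv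
      (((hQA.to_subgroup Y').card_eq_or_dvd).resolve_left Finite.one_lt_card.ne')
    obtain ⟨⟨z, hzN, rfl⟩, hzc⟩ := hyY
    have hzfix : ρ (β z) = ρ z := hyfix ⟨γ, Subgroup.mem_zpowers γ⟩
    have hzA : z ∉ A := fun h => hy1 ((QuotientGroup.eq_one_iff z).2 h)
    have hmem : ∀ a ∈ A, ∀ b ∈ A, ∀ i : ℤ, Commute a (z ^ i) ∧ Commute a b := fun a ha b hb i => by
      obtain ⟨x, hx, hxz⟩ : ∃ x ∈ N, π x = z := hzN
      exact ⟨Commute.zpow_right (hxz ▸ hcA a ha x (hN.le hx)) i, hAc a ha b hb⟩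
    set A' := A ⊔ zpowers z
    have hA' : A' ∈ S := by
      refine ⟨sup_le hAN (zpowers_le.2 hzN), ⟨fun n hn g => ?_⟩, fun x hx => ?_, ?_⟩
      · suffices A' ≤ A'.comap (MulAut.conj g).toMonoidHom from this hn
        refine sup_le (fun a ha => mem_sup_left (hAn.conj_mem a ha g)) (zpowers_le.2 ?_)
        show g * z * g⁻¹ ∈ A'
        have h1 : (g * z * g⁻¹) * z⁻¹ ∈ A := by
          rw [← QuotientGroup.eq_one_iff]
          show ρ (g * z * g⁻¹ * z⁻¹) = 1
          rw [map_mul, map_mul, map_mul, map_inv, map_inv, mem_center_iff.1 hzc,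
            mul_inv_cancel_right, mul_inv_cancel]
        have h2 := mul_mem (mem_sup_left (T := zpowers z) h1)
          (mem_sup_right (S := A) (mem_zpowers z))
        rwa [inv_mul_cancel_right] at h2
      · suffices A' ≤ A'.comap β.toMonoidHom from this hx
        refine sup_le (fun a ha => mem_sup_left (hAi a ha)) (zpowers_le.2 ?_)
        show β z ∈ A'
        have h1 : β z * z⁻¹ ∈ A := by
          rw [← QuotientGroup.eq_one_iff]
          show ρ (β z * z⁻¹) = 1
          rw [map_mul, map_inv, hzfix, mul_inv_cancel]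
        have h2 := mul_mem (mem_sup_left (T := zpowers z) h1)
          (mem_sup_right (S := A) (mem_zpowers z))
        rwa [inv_mul_cancel_right] at h2
      · intro x hx y hy
        obtain ⟨a, ha, u, ⟨i, rfl⟩, rfl⟩ := mem_sup_of_normal_left.1 hx
        obtain ⟨b, hb, v, ⟨j, rfl⟩, rfl⟩ := mem_sup_of_normal_left.1 hy
        show Commute (a * z ^ i) (b * z ^ j)
        exact (Commute.mul_right (hmem a ha b hb j).2 (hmem a ha b hb j).1).mul_left
          (Commute.mul_right (hmem b hb a ha i).1.symm ((Commute.refl z).zpow_zpow i j))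
    exact hzA (hmax hA' le_sup_left (mem_sup_right (mem_zpowers z)))
  refine commutator_le.2 fun x hx w hw => ?_
  rw [← QuotientGroup.eq_one_iff]
  show π ⁅x, w⁆ = 1
  rw [map_commutatorElement, commutatorElement_eq_one_iff_commute]
  exact hcA _ (hAeq ⟨x, hx, rfl⟩) w hw

end CfsgLib.AlperinBound
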